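import Mathlib.Analysis.Complex.Basic
import Mathlib.RingTheory.Ideal.Maps
import Mathlib.RingTheory.Ideal.Operations
import Mathlib.Topology.MetricSpace.Pseudo.Pi
import Mathlib.Algebra.Algebra.Pi
import Mathlib.Algebra.Order.Chebyshev

/-!
# Functions small to order `N` at a complex point of an algebra

`S` a `ℂ`-algebra, `x : S →ₐ[ℂ] ℂ` a point.  `nh x` is the filter of neighbourhoods of `x` for the
topology of pointwise convergence on `S →ₐ[ℂ] ℂ`.  `BigOPow x N f` says that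
`|y f| ≤ C (∑_{s ∈ F} |y s - x s|) ^ N` for `y` near `x`, for some finite `F` and `C`.
-/

set_option autoImplicit false

namespace Groth.Agent.Gaga.H979.BigO

open Filter Topology

noncomputable section

variable {S : Type*} [CommRing S] [Algebra ℂ S]

/-- The filter of neighbourhoods of `x` for the topology of pointwise convergence. -/
def nh (x : S →ₐ[ℂ] ℂ) : Filter (S →ₐ[ℂ] ℂ) :=
  comap (fun (y : S →ₐ[ℂ] ℂ) (s : S) => y s) (𝓝 fun s => x s)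

theorem tendsto_nh (x : S →ₐ[ℂ] ℂ) (s : S) : Tendsto (fun y : S →ₐ[ℂ] ℂ => y s) (nh x) (𝓝 (x s)) :=
  ((continuous_apply s).tendsto _).comp tendsto_comap

theorem tendsto_norm_sub (x : S →ₐ[ℂ] ℂ) (s : S) :
    Tendsto (fun y : S →ₐ[ℂ] ℂ => ‖y s - x s‖) (nh x) (𝓝 0) := by
  have h := ((tendsto_nh x s).sub (tendsto_const_nhds (x := x s))).norm
  simpa using h

theorem eventually_lt (x : S →ₐ[ℂ] ℂ) (F : Finset S) {ε : ℝ} (hε : 0 < ε) :
    ∀ᶠ y in nh x, ∀ s ∈ F, ‖y s - x s‖ < ε := by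
  rw [Filter.eventually_all_finset]
  intro s _
  exact (tendsto_norm_sub x s).eventually (gt_mem_nhds hε)

/-- Basis description of `nh`. -/
theorem eventually_nh_iff (x : S →ₐ[ℂ] ℂ) (P : (S →ₐ[ℂ] ℂ) → Prop) :
    (∀ᶠ y in nh x, P y) ↔ ∃ (F : Finset S) (ε : ℝ), 0 < ε ∧
      ∀ y : S →ₐ[ℂ] ℂ, (∀ s ∈ F, ‖y s - x s‖ < ε) → P y := by
  constructor
  · intro h
    obtain ⟨V, hV, hVP⟩ := h
    rw [nhds_pi, Filter.mem_pi] at hV
    obtain ⟨I, hI, t, ht, htV⟩ := hV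
    have h1 : ∀ s : S, ∃ ε > 0, Metric.ball (x s) ε ⊆ t s := fun s => Metric.mem_nhds_iff.1 (ht s)
    choose ε hε hball using h1
    obtain ⟨η, hη, hη2⟩ : ∃ η : ℝ, 0 < η ∧ ∀ s ∈ hI.toFinset, η ≤ ε s := by
      by_cases hne : hI.toFinset.Nonempty
      · obtain ⟨s0, -, hs0⟩ := Finset.exists_min_image hI.toFinset ε hne
        exact ⟨ε s0, hε s0, hs0⟩
      · rw [Finset.not_nonempty_iff_eq_empty] at hne
        exact ⟨1, one_pos, by simp [hne]⟩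
    refine ⟨hI.toFinset, η, hη, fun y hy => hVP (htV fun s hs => hball s ?_)⟩
    rw [mem_ball_iff_norm]
    have hs' : s ∈ hI.toFinset := by simpa using hs
    exact (hy s hs').trans_le (hη2 s hs')
  · rintro ⟨F, ε, hε, h⟩
    exact (eventually_lt x F hε).mono h

/-- The distance to `x` measured by `F`. -/
def dst (x : S →ₐ[ℂ] ℂ) (F : Finset S) (y : S →ₐ[ℂ] ℂ) : ℝ := ∑ s ∈ F, ‖y s - x s‖

theorem dst_nonneg (x : S →ₐ[ℂ] ℂ) (F : Finset S) (y : S →ₐ[ℂ] ℂ) : 0 ≤ dst x F y :=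
  Finset.sum_nonneg fun _ _ => norm_nonneg _

theorem dst_mono (x : S →ₐ[ℂ] ℂ) {F G : Finset S} (h : F ⊆ G) (y : S →ₐ[ℂ] ℂ) :
    dst x F y ≤ dst x G y :=
  Finset.sum_le_sum_of_subset_of_nonneg h fun _ _ _ => norm_nonneg _

/-- `f` is `O(|y - x| ^ N)` for `y` near `x`. -/
def BigOPow (x : S →ₐ[ℂ] ℂ) (N : ℕ) (f : S) : Prop :=
  ∃ (F : Finset S) (C : ℝ), ∀ᶠ y in nh x, ‖y f‖ ≤ C * dst x F y ^ N

/-- The constant may be assumed nonnegative. -/
theorem BigOPow.nonneg {x : S →ₐ[ℂ] ℂ} {N : ℕ} {f : S} (h : BigOPow x N f) :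
    ∃ (F : Finset S) (C : ℝ), 0 ≤ C ∧ ∀ᶠ y in nh x, ‖y f‖ ≤ C * dst x F y ^ N := by
  obtain ⟨F, C, h⟩ := h
  refine ⟨F, |C|, abs_nonneg _, h.mono fun y hy => hy.trans ?_⟩
  exact mul_le_mul_of_nonneg_right (le_abs_self C) (pow_nonneg (dst_nonneg _ _ _) _)

/-- Explicit form. -/
theorem bigOPow_iff (x : S →ₐ[ℂ] ℂ) (N : ℕ) (f : S) :
    BigOPow x N f ↔ ∃ (F : Finset S) (C ε : ℝ), 0 < ε ∧ ∀ y : S →ₐ[ℂ] ℂ,
      (∀ s ∈ F, ‖y s - x s‖ < ε) → ‖y f‖ ≤ C * (∑ s ∈ F, ‖y s - x s‖) ^ N := by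
  classical
  constructor
  · intro h
    obtain ⟨F, C, hC, h⟩ := h.nonneg
    obtain ⟨G, ε, hε, h⟩ := (eventually_nh_iff _ _).1 h
    refine ⟨F ∪ G, C, ε, hε, fun y hy => ?_⟩
    refine (h y fun s hs => hy s (Finset.mem_union_right _ hs)).trans ?_
    gcongr
    · exact dst_nonneg x F y
    · exact dst_mono x Finset.subset_union_left y
  · rintro ⟨F, C, ε, hε, h⟩
    exact ⟨F, C, (eventually_nh_iff _ _).2 ⟨F, ε, hε, h⟩⟩

theorem BigOPow.add {x : S →ₐ[ℂ] ℂ} {N : ℕ} {f g : S} (hf : BigOPow x N f) (hg : BigOPow x N g) :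
    BigOPow x N (f + g) := by
  classical
  obtain ⟨F, C, hC, hf⟩ := hf.nonneg
  obtain ⟨G, D, hD, hg⟩ := hg.nonneg
  refine ⟨F ∪ G, C + D, ?_⟩
  filter_upwards [hf, hg] with y h1 h2
  rw [map_add, add_mul]
  refine (norm_add_le _ _).trans (add_le_add (h1.trans ?_) (h2.trans ?_))
  · gcongr
    · exact dst_nonneg x F y
    · exact dst_mono x Finset.subset_union_left y
  · gcongr
    · exact dst_nonneg x G y
    · exact dst_mono x Finset.subset_union_right y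

theorem bigOPow_zero_right (x : S →ₐ[ℂ] ℂ) (N : ℕ) : BigOPow x N (0 : S) :=
  ⟨∅, 0, Eventually.of_forall fun y => by simp⟩

/-- Everything is bounded near `x`. -/
theorem bigOPow_zero_left (x : S →ₐ[ℂ] ℂ) (f : S) : BigOPow x 0 f := by
  refine ⟨∅, ‖x f‖ + 1, ?_⟩
  have h := (tendsto_nh x f).norm
  filter_upwards [h.eventually (gt_mem_nhds (lt_add_one ‖x f‖))] with y hy
  simpa using hy.le

theorem BigOPow.mul {x : S →ₐ[ℂ] ℂ} {a b : ℕ} {f g : S} (hf : BigOPow x a f)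
    (hg : BigOPow x b g) : BigOPow x (a + b) (f * g) := by
  classical
  obtain ⟨F, C, hC, hf⟩ := hf.nonneg
  obtain ⟨G, D, hD, hg⟩ := hg.nonneg
  refine ⟨F ∪ G, C * D, ?_⟩
  filter_upwards [hf, hg] with y h1 h2
  rw [map_mul, norm_mul, pow_add]
  calc ‖y f‖ * ‖y g‖ ≤ (C * dst x F y ^ a) * (D * dst x G y ^ b) :=
        mul_le_mul h1 h2 (norm_nonneg _) (mul_nonneg hC (pow_nonneg (dst_nonneg _ _ _) _))
    _ ≤ (C * dst x (F ∪ G) y ^ a) * (D * dst x (F ∪ G) y ^ b) := by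
        have e1 := dst_nonneg x F y
        have e2 := dst_nonneg x G y
        have e3 := dst_mono x (Finset.subset_union_left (s₁ := F) (s₂ := G)) y
        have e4 := dst_mono x (Finset.subset_union_right (s₁ := F) (s₂ := G)) y
        have e5 : 0 ≤ C * dst x (F ∪ G) y ^ a := mul_nonneg hC (pow_nonneg (dst_nonneg _ _ _) _)
        gcongr
    _ = C * D * (dst x (F ∪ G) y ^ a * dst x (F ∪ G) y ^ b) := by ring

/-- The ideal of functions small to order `N` at `x`. -/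
def J (x : S →ₐ[ℂ] ℂ) (N : ℕ) : Ideal S where
  carrier := {f | BigOPow x N f}
  add_mem' h1 h2 := h1.add h2
  zero_mem' := bigOPow_zero_right x N
  smul_mem' c f h := by
    have := (bigOPow_zero_left x c).mul h
    rwa [zero_add] at this

theorem mem_J {x : S →ₐ[ℂ] ℂ} {N : ℕ} {f : S} : f ∈ J x N ↔ BigOPow x N f := Iff.rfl

theorem ker_le_J_one (x : S →ₐ[ℂ] ℂ) : RingHom.ker x ≤ J x 1 := by
  intro f hf
  rw [RingHom.mem_ker] at hf
  refine ⟨{f}, 1, Eventually.of_forall fun y => ?_⟩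
  simp [dst, hf]

theorem ker_pow_le_J (x : S →ₐ[ℂ] ℂ) (N : ℕ) : RingHom.ker x ^ N ≤ J x N := by
  induction N with
  | zero => intro f _; exact bigOPow_zero_left x f
  | succ N ih =>
    rw [pow_succ]
    refine Ideal.mul_le.2 fun a ha b hb => ?_
    exact (mem_J.1 (ih ha)).mul (mem_J.1 (ker_le_J_one x hb))

theorem J_mono (x : S →ₐ[ℂ] ℂ) {a b : ℕ} (h : a ≤ b) : J x b ≤ J x a := by
  intro f hf
  obtain ⟨F, C, hC, hf⟩ := (mem_J.1 hf).nonneg
  refine ⟨F, C, ?_⟩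
  have hs : ∀ᶠ y in nh x, dst x F y ≤ 1 := by
    have h0 : Tendsto (dst x F) (nh x) (𝓝 (∑ s ∈ F, (0:ℝ))) :=
      tendsto_finsetSum _ fun s _ => tendsto_norm_sub x s
    rw [Finset.sum_const_zero] at h0
    filter_upwards [h0.eventually (gt_mem_nhds one_pos)] with y hy
    exact hy.le
  filter_upwards [hf, hs] with y h1 h2
  refine h1.trans (mul_le_mul_of_nonneg_left ?_ hC)
  exact pow_le_pow_of_le_one (dst_nonneg _ _ _) h2 h

/-- `(∑ a_i) ^ M ≤ card ^ M * ∑ a_i ^ M`. -/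
theorem sum_pow_le {ι : Type*} (F : Finset ι) (a : ι → ℝ) (ha : ∀ i ∈ F, 0 ≤ a i) (M : ℕ)
    (hM : M ≠ 0) : (∑ i ∈ F, a i) ^ M ≤ (F.card : ℝ) ^ M * ∑ i ∈ F, a i ^ M := by
  obtain ⟨m, rfl⟩ := Nat.exists_eq_succ_of_ne_zero hM
  by_cases hF : F.card = 0
  · rw [Finset.card_eq_zero] at hF
    simp [hF]
  have h := pow_sum_div_card_le_sum_pow ha m
  have hc : (1:ℝ) ≤ F.card := by
    exact_mod_cast Nat.one_le_iff_ne_zero.2 hF
  rw [div_le_iff₀ (by positivity)] at h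
  refine h.trans ?_
  rw [mul_comm]
  have h2 : (0:ℝ) ≤ ∑ i ∈ F, a i ^ (m+1) := Finset.sum_nonneg fun i hi => pow_nonneg (ha i hi) _
  refine mul_le_mul_of_nonneg_right ?_ h2
  exact pow_le_pow_right₀ hc (Nat.le_succ m)

end

end Groth.Agent.Gaga.H979.BigO
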