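import Groth.Agent.Gaga.H979.Proper
import Mathlib.RingTheory.Ideal.Quotient.Operations
import Mathlib.RingTheory.Ideal.MinimalPrime.Noetherian
import Mathlib.RingTheory.Noetherian.Basic
import Mathlib.RingTheory.FiniteType
import Mathlib.RingTheory.Polynomial.Basic
import Mathlib.RingTheory.Jacobson.Ideal
import Mathlib.FieldTheory.IsAlgClosed.Basic
import Mathlib.Analysis.Complex.Polynomial.Basic

/-!
# The points over the origin of a finite algebra over a polynomial ring

`S` finite over `R = ℂ[X_1, …, X_d]`.  The set `P` of points over the origin is finite, the radical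
of `I S` (`I` the ideal of the variables) is the intersection of the kernels of these points, and
for some `M` there are `e x ∈ S` with `x (e x) ≠ 0` and `e x (s - x s) ^ M ∈ I S` for all `s`.
-/

set_option autoImplicit false

namespace Groth.Agent.Gaga.H979.Exponent

open Groth.Agent.Gaga.H979.Proper

noncomputable section

variable {d : ℕ} {S : Type*} [CommRing S] [Algebra ℂ S]
  [Algebra (MvPolynomial (Fin d) ℂ) S]
  [IsScalarTower ℂ (MvPolynomial (Fin d) ℂ) S]

local notation "𝓡" => MvPolynomial (Fin d) ℂ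

/-- The ideal generated by the variables. -/
def IS (d : ℕ) (S : Type*) [CommRing S] [Algebra (MvPolynomial (Fin d) ℂ) S] : Ideal S :=
  (MvPolynomial.idealOfVars (Fin d) ℂ).map (algebraMap (MvPolynomial (Fin d) ℂ) S)

/-- Points over the origin. -/
def P0 (d : ℕ) (S : Type*) [CommRing S] [Algebra ℂ S] [Algebra (MvPolynomial (Fin d) ℂ) S] :
    Set (S →ₐ[ℂ] ℂ) := {x | ∀ i, (coord x : Fin d → ℂ) i = 0}

omit [Algebra ℂ S] [IsScalarTower ℂ (MvPolynomial (Fin d) ℂ) S] in
theorem IS_le_iff (Q : Ideal S) : IS d S ≤ Q ↔ ∀ i : Fin d, algebraMap 𝓡 S (.X i) ∈ Q := by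
  rw [IS, MvPolynomial.idealOfVars, Ideal.map_span, Ideal.span_le, ← Set.range_comp]
  constructor
  · intro h i
    exact h ⟨i, rfl⟩
  · rintro h _ ⟨i, rfl⟩
    exact h i

omit [IsScalarTower ℂ (MvPolynomial (Fin d) ℂ) S] in
theorem mem_P0_iff (x : S →ₐ[ℂ] ℂ) : x ∈ P0 d S ↔ IS d S ≤ RingHom.ker x := by
  rw [IS_le_iff]
  rfl

theorem sub_eval_mem (c : 𝓡) : c - MvPolynomial.C (MvPolynomial.eval 0 c) ∈
    MvPolynomial.idealOfVars (Fin d) ℂ := by
  have h := (MvPolynomial.mem_pow_idealOfVars_iff' 1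
    (c - MvPolynomial.C (MvPolynomial.eval 0 c))).2
  rw [pow_one] at h
  apply h
  intro x hx
  have hx0 : x = 0 := by
    have : x.degree = 0 := by omega
    rwa [Finsupp.degree_eq_zero_iff] at this
  subst hx0
  simp [← MvPolynomial.constantCoeff_eq]

/-- Prime ideals over the ideal of the variables are kernels of points. -/
theorem exists_ker_eq [Algebra.IsIntegral 𝓡 S] (Q : Ideal S) [Q.IsPrime] (hQ : IS d S ≤ Q) :
    ∃ x : S →ₐ[ℂ] ℂ, RingHom.ker x = Q := by
  have hI : Algebra.IsIntegral ℂ (S ⧸ Q) := by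
    refine ⟨fun z => ?_⟩
    obtain ⟨s, rfl⟩ := Ideal.Quotient.mk_surjective z
    obtain ⟨p, hp, hps⟩ := Algebra.IsIntegral.isIntegral (R := 𝓡) s
    refine ⟨p.map (MvPolynomial.eval 0), hp.map _, ?_⟩
    rw [Polynomial.eval₂_map]
    have : (algebraMap ℂ (S ⧸ Q)).comp (MvPolynomial.eval 0) =
        (Ideal.Quotient.mk Q).comp (algebraMap 𝓡 S) := by
      refine RingHom.ext fun c => ?_
      have h1 : algebraMap 𝓡 S (c - MvPolynomial.C (MvPolynomial.eval 0 c)) ∈ Q :=
        hQ (Ideal.mem_map_of_mem _ (sub_eval_mem c))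
      rw [map_sub] at h1
      have h2 := Ideal.Quotient.eq.2 h1
      rw [RingHom.comp_apply, RingHom.comp_apply, h2]
      have h3 : algebraMap ℂ (S ⧸ Q) (MvPolynomial.eval 0 c) =
        Ideal.Quotient.mk Q (algebraMap ℂ S (MvPolynomial.eval 0 c)) := rfl
      rw [h3, IsScalarTower.algebraMap_apply ℂ 𝓡 S]
      rfl
    rw [this, ← Polynomial.hom_eval₂, hps, map_zero]
  have hbij := IsAlgClosed.algebraMap_bijective_of_isIntegral (k := ℂ) (K := S ⧸ Q)
  let e : ℂ ≃ₐ[ℂ] (S ⧸ Q) := AlgEquiv.ofBijective (Algebra.ofId ℂ (S ⧸ Q)) hbij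
  refine ⟨(e.symm : (S ⧸ Q) →ₐ[ℂ] ℂ).comp (Ideal.Quotient.mkₐ ℂ Q), ?_⟩
  ext s
  rw [RingHom.mem_ker]
  change e.symm (Ideal.Quotient.mk Q s) = 0 ↔ _
  rw [EmbeddingLike.map_eq_zero_iff, Ideal.Quotient.eq_zero_iff_mem]

/-- A point is determined by its kernel. -/
theorem ker_injective {x y : S →ₐ[ℂ] ℂ} (h : RingHom.ker x ≤ RingHom.ker y) : x = y := by
  ext s
  have h1 : s - algebraMap ℂ S (x s) ∈ RingHom.ker x := by
    rw [RingHom.mem_ker, map_sub, AlgHom.commutes, Algebra.algebraMap_self, RingHom.id_apply,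
      sub_self]
  have h2 := h h1
  rw [RingHom.mem_ker, map_sub, AlgHom.commutes, Algebra.algebraMap_self, RingHom.id_apply,
    sub_eq_zero] at h2
  exact h2.symm

theorem isMaximal_ker (x : S →ₐ[ℂ] ℂ) : (RingHom.ker x).IsMaximal :=
  RingHom.ker_isMaximal_of_surjective x fun c => ⟨algebraMap ℂ S c, by simp⟩

theorem finite_P0 [Module.Finite 𝓡 S] : (P0 d S).Finite := by
  have hN : IsNoetherianRing S := IsNoetherianRing.of_finite 𝓡 S
  have h1 : (IS d S).minimalPrimes.Finite := Ideal.finite_minimalPrimes_of_isNoetherianRing _ _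
  refine Set.Finite.of_finite_image (f := fun x : S →ₐ[ℂ] ℂ => RingHom.ker x) (h1.subset ?_) ?_
  · rintro _ ⟨x, hx, rfl⟩
    have hp : (RingHom.ker x).IsPrime := RingHom.ker_isPrime x
    refine ⟨⟨hp, (mem_P0_iff x).1 hx⟩, ?_⟩
    rintro Q ⟨hQ1, hQ2⟩ hQ3
    obtain ⟨y, rfl⟩ := exists_ker_eq Q hQ2
    have := ker_injective hQ3
    rw [this]
  · intro x _ y _ h
    exact ker_injective (le_of_eq h)

/-- An element vanishing at all points over the origin is in the radical of `IS`. -/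
theorem mem_radical [Algebra.IsIntegral 𝓡 S] (t : S) (ht : ∀ x ∈ P0 d S, x t = 0) :
    t ∈ (IS d S).radical := by
  rw [Ideal.radical_eq_sInf, Submodule.mem_sInf]
  rintro Q ⟨hQ1, hQ2⟩
  have := hQ2
  obtain ⟨x, rfl⟩ := exists_ker_eq Q hQ1
  exact ht x ((mem_P0_iff x).2 hQ1)

theorem exists_exponent [Module.Finite 𝓡 S] :
    ∃ (M : ℕ) (e : (S →ₐ[ℂ] ℂ) → S), M ≠ 0 ∧ (∀ x ∈ P0 d S, x (e x) ≠ 0) ∧
      ∀ x ∈ P0 d S, ∀ s : S, e x * (s - algebraMap ℂ S (x s)) ^ M ∈ IS d S := by
  classical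
  have hN : IsNoetherianRing S := IsNoetherianRing.of_finite 𝓡 S
  obtain ⟨m, hm⟩ := Ideal.exists_radical_pow_le_of_fg (IS d S) (IsNoetherian.noetherian _)
  have hsep : ∀ x y : S →ₐ[ℂ] ℂ, ∃ t : S, x ≠ y → (y t = 0 ∧ x t ≠ 0) := by
    intro x y
    by_cases hxy : x = y
    · exact ⟨0, fun h => absurd hxy h⟩
    · have h1 : ¬ (RingHom.ker y ≤ RingHom.ker x) := fun h => hxy (ker_injective h).symm
      rw [SetLike.not_le_iff_exists] at h1
      obtain ⟨t, ht1, ht2⟩ := h1
      exact ⟨t, fun _ => ⟨ht1, ht2⟩⟩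
  choose t ht using hsep
  set P := (finite_P0 (d := d) (S := S)).toFinset with hP
  refine ⟨m + 1, fun x => (∏ y ∈ P.erase x, t x y) ^ (m + 1), Nat.succ_ne_zero m, ?_, ?_⟩
  · intro x _
    rw [map_pow, map_prod]
    refine pow_ne_zero _ (Finset.prod_ne_zero_iff.2 fun y hy => ?_)
    exact (ht x y (Finset.ne_of_mem_erase hy).symm).2
  · intro x hx s
    rw [← mul_pow]
    have h1 : (∏ y ∈ P.erase x, t x y) * (s - algebraMap ℂ S (x s)) ∈ (IS d S).radical := by
      apply mem_radical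
      intro z hz
      by_cases hzx : z = x
      · subst hzx
        rw [map_mul, map_sub, AlgHom.commutes, Algebra.algebraMap_self, RingHom.id_apply, sub_self,
          mul_zero]
      · rw [map_mul, map_prod]
        have hzP : z ∈ P.erase x := by
          rw [Finset.mem_erase]
          refine ⟨hzx, ?_⟩
          rw [hP, Set.Finite.mem_toFinset]
          exact hz
        rw [Finset.prod_eq_zero hzP (ht x z (Ne.symm hzx)).1, zero_mul]
    exact hm (Ideal.pow_le_pow_right (Nat.le_succ m) (Ideal.pow_mem_pow h1 _))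

/-- Chinese remainders: modify an element at all points over the origin but `x`. -/
theorem exists_crt [Module.Finite 𝓡 S] (x : S →ₐ[ℂ] ℂ) (N : ℕ) (f : S) :
    ∃ g : S, g - f ∈ RingHom.ker x ^ N ∧ ∀ y ∈ P0 d S, y ≠ x → g ∈ RingHom.ker y ^ N := by
  classical
  have hfin : Finite (insert x (P0 d S) : Set _) := (finite_P0.insert x).to_subtype
  obtain ⟨g, hg⟩ := Ideal.exists_forall_sub_mem_ideal
    (I := fun y : (insert x (P0 d S) : Set (S →ₐ[ℂ] ℂ)) => RingHom.ker y.1 ^ N)
    (by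
      intro y z hyz
      apply IsCoprime.pow
      rw [Ideal.isCoprime_iff_sup_eq]
      have h1 := isMaximal_ker y.1
      have h2 := isMaximal_ker z.1
      apply h1.coprime_of_ne h2
      intro h
      exact hyz (Subtype.ext (ker_injective (le_of_eq h))))
    (fun y => if y.1 = x then f else 0)
  refine ⟨g, ?_, ?_⟩
  · have := hg ⟨x, Set.mem_insert _ _⟩
    simpa using this
  · intro y hy hyx
    have := hg ⟨y, Set.mem_insert_of_mem _ hy⟩
    simpa [hyx] using this

end

end Groth.Agent.Gaga.H979.Exponent
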