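import Mathlib.RingTheory.MvPolynomial.Ideal
import Mathlib.RingTheory.IntegralClosure.Algebra.Basic
import Mathlib.Analysis.Complex.Basic
import Mathlib.Analysis.Polynomial.CauchyBound
import Mathlib.Topology.Algebra.MvPolynomial
import Mathlib.Topology.Algebra.Polynomial
import Mathlib.Topology.MetricSpace.ProperSpace
import Mathlib.Topology.MetricSpace.ProperSpace.Lemmas

/-!
# Points of an integral extension of a polynomial ring near the origin

`S` integral over `R = ℂ[X_1, …, X_d]`.  Points `y : S →ₐ[ℂ] ℂ` whose coordinates `y X_i` are small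
are near a point over the origin: for every finite subset `F` of `S` and `η > 0` there is `δ > 0`
such that `|y X_i| < δ` for all `i` implies `|y s - x s| < η` for all `s ∈ F` and some `x` over `0`.
-/

set_option autoImplicit false

namespace Groth.Agent.Gaga.H979.Proper

open Filter Topology

noncomputable section

/-- The value of a monic polynomial of which `z` is a root bounds `z`. -/
theorem norm_le_of_root (p : Polynomial ℂ) (hp : p.Monic) (z : ℂ) (hz : p.IsRoot z) :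
    ‖z‖ ≤ 1 + ∑ j ∈ Finset.range p.natDegree, ‖p.coeff j‖ := by
  by_cases h0 : p.natDegree = 0
  · exfalso
    have : p = 1 := by
      rw [Polynomial.eq_C_of_natDegree_eq_zero h0]
      have := hp.coeff_natDegree
      rw [h0] at this
      rw [this]; simp
    rw [this] at hz
    simp at hz
  by_contra hcon
  push Not at hcon
  set B : ℝ := ∑ j ∈ Finset.range p.natDegree, ‖p.coeff j‖ with hB
  have hB0 : 0 ≤ B := Finset.sum_nonneg fun i _ => norm_nonneg _
  have hz1 : 1 < ‖z‖ := by linarith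
  have hroot : p.eval z = 0 := hz
  rw [Polynomial.eval_eq_sum_range, Finset.sum_range_succ, hp.coeff_natDegree, one_mul] at hroot
  have h1 : z ^ p.natDegree = - ∑ j ∈ Finset.range p.natDegree, p.coeff j * z ^ j := by
    linear_combination hroot
  have h2 : ‖z‖ ^ p.natDegree ≤ B * ‖z‖ ^ (p.natDegree - 1) := by
    rw [← norm_pow, h1, norm_neg, hB, Finset.sum_mul]
    refine (norm_sum_le _ _).trans (Finset.sum_le_sum fun j hj => ?_)
    rw [norm_mul, norm_pow]
    have := Finset.mem_range.1 hj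
    gcongr
    · exact hz1.le
    · omega
  have h3 : ‖z‖ ^ p.natDegree = ‖z‖ * ‖z‖ ^ (p.natDegree - 1) := by
    rw [← pow_succ']; congr 1; omega
  rw [h3] at h2
  have h4 : ‖z‖ ≤ B := le_of_mul_le_mul_right h2 (pow_pos (by linarith) _)
  linarith

variable {d : ℕ} {S : Type*} [CommRing S] [Algebra ℂ S] [Algebra (MvPolynomial (Fin d) ℂ) S]
  [IsScalarTower ℂ (MvPolynomial (Fin d) ℂ) S]

/-- The coordinates of a point of `S`. -/
def coord (y : S →ₐ[ℂ] ℂ) (i : Fin d) : ℂ := y (algebraMap (MvPolynomial (Fin d) ℂ) S (.X i))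

theorem apply_algebraMap (y : S →ₐ[ℂ] ℂ) (c : MvPolynomial (Fin d) ℂ) :
    y (algebraMap (MvPolynomial (Fin d) ℂ) S c) = MvPolynomial.eval (coord y) c := by
  have h : ((y.comp (IsScalarTower.toAlgHom ℂ (MvPolynomial (Fin d) ℂ) S)) :
      MvPolynomial (Fin d) ℂ →ₐ[ℂ] ℂ) = MvPolynomial.aeval (coord y) := by
    apply MvPolynomial.algHom_ext
    intro i
    simp [coord]
  have h2 : y (algebraMap (MvPolynomial (Fin d) ℂ) S c) = MvPolynomial.aeval (coord y) c :=
    DFunLike.congr_fun h c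
  rw [h2, MvPolynomial.aeval_eq_eval]

/-- The filter of points over small `u`. -/
def smallFilter (d : ℕ) (S : Type*) [CommRing S] [Algebra ℂ S] [Algebra (MvPolynomial (Fin d) ℂ) S] :
    Filter (S →ₐ[ℂ] ℂ) := comap (fun y : S →ₐ[ℂ] ℂ => (coord y : Fin d → ℂ)) (𝓝 0)

theorem tendsto_algebraMap (c : MvPolynomial (Fin d) ℂ) (l : Filter (S →ₐ[ℂ] ℂ))
    (hl : l ≤ smallFilter d S) :
    Tendsto (fun y : S →ₐ[ℂ] ℂ => y (algebraMap (MvPolynomial (Fin d) ℂ) S c)) l
      (𝓝 (MvPolynomial.eval 0 c)) := by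
  simp_rw [apply_algebraMap]
  have h1 : Tendsto (fun y : S →ₐ[ℂ] ℂ => (coord y : Fin d → ℂ)) l (𝓝 0) :=
    tendsto_comap.mono_left hl
  exact ((MvPolynomial.continuous_eval c).tendsto 0).comp h1

/-- Values of integral elements stay bounded. -/
theorem eventually_bounded [Algebra.IsIntegral (MvPolynomial (Fin d) ℂ) S] (s : S)
    (l : Filter (S →ₐ[ℂ] ℂ)) (hl : l ≤ smallFilter d S) :
    ∃ B : ℝ, ∀ᶠ y in l, y s ∈ Metric.closedBall (0 : ℂ) B := by
  obtain ⟨p, hp, hps⟩ := Algebra.IsIntegral.isIntegral (R := MvPolynomial (Fin d) ℂ) s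
  set f : (S →ₐ[ℂ] ℂ) → Polynomial ℂ := fun y =>
    p.map ((y : S →+* ℂ).comp (algebraMap (MvPolynomial (Fin d) ℂ) S)) with hf
  refine ⟨1 + ∑ j ∈ Finset.range p.natDegree, (‖MvPolynomial.eval 0 (p.coeff j)‖ + 1), ?_⟩
  have h1 : ∀ j ∈ Finset.range p.natDegree, ∀ᶠ y in l,
      ‖(f y).coeff j‖ < ‖MvPolynomial.eval 0 (p.coeff j)‖ + 1 := by
    intro j _
    have h2 := (tendsto_algebraMap (S := S) (p.coeff j) l hl).norm
    have h3 := h2.eventually (gt_mem_nhds (lt_add_one _))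
    filter_upwards [h3] with y hy
    rw [hf]
    simp only [Polynomial.coeff_map, RingHom.comp_apply]
    exact hy
  rw [← Filter.eventually_all_finset] at h1
  filter_upwards [h1] with y hy
  rw [mem_closedBall_zero_iff]
  have hm : (f y).Monic := hp.map _
  have hroot : (f y).IsRoot (y s) := by
    rw [Polynomial.IsRoot, hf]
    simp only
    rw [Polynomial.eval_map]
    have h4 := Polynomial.hom_eval₂ p (algebraMap (MvPolynomial (Fin d) ℂ) S) (y : S →+* ℂ) s
    rw [hps, map_zero] at h4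
    exact h4.symm
  refine (norm_le_of_root (f y) hm (y s) hroot).trans ?_
  have hdeg : (f y).natDegree = p.natDegree := hp.natDegree_map _
  rw [hdeg]
  gcongr with j hj
  exact (hy j hj).le

theorem exists_point_near [Algebra.IsIntegral (MvPolynomial (Fin d) ℂ) S] (F : Finset S)
    (η : ℝ) (hη : 0 < η) :
    ∃ δ : ℝ, 0 < δ ∧ ∀ y : S →ₐ[ℂ] ℂ, (∀ i, ‖(coord y : Fin d → ℂ) i‖ < δ) →
      ∃ x : S →ₐ[ℂ] ℂ, (∀ i, (coord x : Fin d → ℂ) i = 0) ∧ ∀ s ∈ F, ‖y s - x s‖ < η := by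
  by_contra hcon
  push Not at hcon
  set bad : Set (S →ₐ[ℂ] ℂ) := {y | ∀ x : S →ₐ[ℂ] ℂ, (∀ i, (coord x : Fin d → ℂ) i = 0) →
    ∃ s ∈ F, η ≤ ‖y s - x s‖} with hbad
  have hne : (smallFilter d S ⊓ 𝓟 bad).NeBot := by
    rw [inf_principal_neBot_iff]
    intro U hU
    obtain ⟨V, hV, hVU⟩ := hU
    obtain ⟨δ, hδ, hball⟩ := Metric.mem_nhds_iff.1 hV
    obtain ⟨y, hy1, hy2⟩ := hcon δ hδ
    refine ⟨y, hVU (hball ?_), hy2⟩
    rw [mem_ball_zero_iff, pi_norm_lt_iff hδ]
    exact hy1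
  let 𝒰 := Ultrafilter.of (smallFilter d S ⊓ 𝓟 bad)
  have h𝒰 : (𝒰 : Filter (S →ₐ[ℂ] ℂ)) ≤ smallFilter d S ⊓ 𝓟 bad := Ultrafilter.of_le _
  have h𝒰1 : (𝒰 : Filter (S →ₐ[ℂ] ℂ)) ≤ smallFilter d S := h𝒰.trans inf_le_left
  have hlim : ∀ s : S, ∃ z : ℂ, Tendsto (fun y : S →ₐ[ℂ] ℂ => y s) 𝒰 (𝓝 z) := by
    intro s
    obtain ⟨B, hB⟩ := eventually_bounded (d := d) s 𝒰 h𝒰1
    have hc : IsCompact (Metric.closedBall (0:ℂ) B) := isCompact_closedBall _ _
    obtain ⟨z, -, hz⟩ := hc.ultrafilter_le_nhds (𝒰.map (fun y : S →ₐ[ℂ] ℂ => y s))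
      (by rw [le_principal_iff]; exact hB)
    exact ⟨z, hz⟩
  choose x hx using hlim
  let xh : S →ₐ[ℂ] ℂ :=
    { toFun := x
      map_one' := tendsto_nhds_unique (hx 1) (by simp)
      map_mul' := fun a b => tendsto_nhds_unique (hx (a * b)) (by simpa using (hx a).mul (hx b))
      map_zero' := tendsto_nhds_unique (hx 0) (by simp)
      map_add' := fun a b => tendsto_nhds_unique (hx (a + b)) (by simpa using (hx a).add (hx b))
      commutes' := fun c => tendsto_nhds_unique (hx (algebraMap ℂ S c)) (by simp) }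
  have hx0 : ∀ i, (coord xh : Fin d → ℂ) i = 0 := by
    intro i
    have h1 := tendsto_algebraMap (S := S) (MvPolynomial.X i : MvPolynomial (Fin d) ℂ) 𝒰 h𝒰1
    have h2 := tendsto_nhds_unique (hx _) h1
    rw [MvPolynomial.eval_X] at h2
    exact h2
  have hev : ∀ᶠ y in (𝒰 : Filter (S →ₐ[ℂ] ℂ)), ∀ s ∈ F, ‖y s - xh s‖ < η := by
    rw [Filter.eventually_all_finset]
    intro s _
    have h1 : Tendsto (fun y : S →ₐ[ℂ] ℂ => ‖y s - xh s‖) 𝒰 (𝓝 ‖x s - xh s‖) :=
      ((hx s).sub tendsto_const_nhds).norm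
    have h2 : x s - xh s = 0 := sub_self _
    rw [h2, norm_zero] at h1
    exact h1.eventually (gt_mem_nhds hη)
  have hevb : ∀ᶠ y in (𝒰 : Filter (S →ₐ[ℂ] ℂ)), y ∈ bad :=
    (h𝒰.trans inf_le_right) (mem_principal_self _)
  obtain ⟨y, hy1, hy2⟩ := (hev.and hevb).exists
  obtain ⟨s, hs, hs'⟩ := hy2 xh hx0
  exact absurd (hy1 s hs) (not_lt.2 hs')

end

end Groth.Agent.Gaga.H979.Proper
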