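import Groth.Agent.Gaga.H979.BigO
import Groth.Agent.Gaga.H979.Proper

/-!
# Local estimates: functions small to order `M k` at all points over the origin are `O(|u| ^ k)`
-/

set_option autoImplicit false

namespace Groth.Agent.Gaga.H979.LocEst

open Filter Topology
open Groth.Agent.Gaga.H979.BigO Groth.Agent.Gaga.H979.Proper

noncomputable section

variable {d : ℕ} {S : Type*} [CommRing S] [Algebra ℂ S] [Algebra (MvPolynomial (Fin d) ℂ) S]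
  [IsScalarTower ℂ (MvPolynomial (Fin d) ℂ) S]

/-- The size of the coordinates of a point. -/
def csize (d : ℕ) {S : Type*} [CommRing S] [Algebra ℂ S] [Algebra (MvPolynomial (Fin d) ℂ) S]
    (y : S →ₐ[ℂ] ℂ) : ℝ := ∑ i, ‖(coord y : Fin d → ℂ) i‖

omit [IsScalarTower ℂ (MvPolynomial (Fin d) ℂ) S] in
theorem csize_nonneg (y : S →ₐ[ℂ] ℂ) : 0 ≤ csize d y := Finset.sum_nonneg fun _ _ => norm_nonneg _

/-- Elements of the ideal generated by the variables are `O(|u|)` near any point. -/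
theorem bound_of_mem_map (x : S →ₐ[ℂ] ℂ) (t : S)
    (ht : t ∈ (MvPolynomial.idealOfVars (Fin d) ℂ).map (algebraMap (MvPolynomial (Fin d) ℂ) S)) :
    ∃ C : ℝ, 0 ≤ C ∧ ∀ᶠ y in nh x, ‖y t‖ ≤ C * csize d y := by
  rw [MvPolynomial.idealOfVars, Ideal.map_span, ← Set.range_comp] at ht
  refine Submodule.span_induction (p := fun t _ => ∃ C : ℝ, 0 ≤ C ∧ ∀ᶠ y in nh x, ‖y t‖ ≤ C * csize d y)
    ?_ ?_ ?_ ?_ ht
  · rintro _ ⟨i, rfl⟩
    refine ⟨1, zero_le_one, Eventually.of_forall fun y => ?_⟩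
    rw [one_mul]
    exact Finset.single_le_sum (f := fun i => ‖(coord y : Fin d → ℂ) i‖)
      (fun i _ => norm_nonneg _) (Finset.mem_univ i)
  · exact ⟨0, le_rfl, Eventually.of_forall fun y => by simp⟩
  · rintro a b - - ⟨C, hC, h1⟩ ⟨D, hD, h2⟩
    refine ⟨C + D, add_nonneg hC hD, ?_⟩
    filter_upwards [h1, h2] with y h1 h2
    rw [map_add, add_mul]
    exact (norm_add_le _ _).trans (add_le_add h1 h2)
  · rintro a b - ⟨C, hC, h1⟩
    obtain ⟨F, D, h2⟩ := bigOPow_zero_left x a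
    refine ⟨|D| * C, mul_nonneg (abs_nonneg _) hC, ?_⟩
    filter_upwards [h1, h2] with y h1 h2
    rw [smul_eq_mul, map_mul, norm_mul, mul_assoc]
    rw [pow_zero, mul_one] at h2
    exact mul_le_mul (h2.trans (le_abs_self D)) h1 (norm_nonneg _) (abs_nonneg _)

/-- If `e (s - x s) ^ M` is in the ideal of the variables and `x e ≠ 0` then
`|y s - x s| ^ M ≤ C |u(y)|` near `x`. -/
theorem bound_sub_pow (x : S →ₐ[ℂ] ℂ) (e : S) (he : x e ≠ 0) (M : ℕ) (s : S)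
    (h : e * (s - algebraMap ℂ S (x s)) ^ M ∈
      (MvPolynomial.idealOfVars (Fin d) ℂ).map (algebraMap (MvPolynomial (Fin d) ℂ) S)) :
    ∃ C : ℝ, 0 ≤ C ∧ ∀ᶠ y in nh x, ‖y s - x s‖ ^ M ≤ C * csize d y := by
  obtain ⟨C, hC, h1⟩ := bound_of_mem_map x _ h
  have he' : 0 < ‖x e‖ := norm_pos_iff.2 he
  have h2 : ∀ᶠ y in nh x, ‖x e‖ / 2 < ‖y e‖ :=
    (tendsto_nh x e).norm.eventually (lt_mem_nhds (half_lt_self he'))
  refine ⟨C * (2 / ‖x e‖), by positivity, ?_⟩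
  filter_upwards [h1, h2] with y h1 h2
  rw [map_mul, map_pow, map_sub, AlgHom.commutes, norm_mul, norm_pow] at h1
  have h3 : y s - algebraMap ℂ ℂ (x s) = y s - x s := rfl
  rw [h3] at h1
  have h4 : ‖x e‖ / 2 * ‖y s - x s‖ ^ M ≤ C * csize d y :=
    (mul_le_mul_of_nonneg_right h2.le (pow_nonneg (norm_nonneg _) _)).trans h1
  calc ‖y s - x s‖ ^ M = (2 / ‖x e‖) * (‖x e‖ / 2 * ‖y s - x s‖ ^ M) := by
        field_simp
    _ ≤ (2 / ‖x e‖) * (C * csize d y) := mul_le_mul_of_nonneg_left h4 (by positivity)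
    _ = C * (2 / ‖x e‖) * csize d y := by ring

/-- Near a point `x` over the origin at which the maximal ideal is nilpotent modulo the ideal of the
variables, with exponent `M`, functions in `J x (M * k)` are `O(|u| ^ k)`. -/
theorem bound_of_mem_J (x : S →ₐ[ℂ] ℂ) (e : S) (he : x e ≠ 0) (M : ℕ) (hM : M ≠ 0)
    (h : ∀ s : S, e * (s - algebraMap ℂ S (x s)) ^ M ∈
      (MvPolynomial.idealOfVars (Fin d) ℂ).map (algebraMap (MvPolynomial (Fin d) ℂ) S))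
    (k : ℕ) (g : S) (hg : g ∈ J x (M * k)) :
    ∃ C : ℝ, 0 ≤ C ∧ ∀ᶠ y in nh x, ‖y g‖ ≤ C * csize d y ^ k := by
  obtain ⟨F, C, hC, h1⟩ := (mem_J.1 hg).nonneg
  have h2 : ∀ s : S, ∃ C : ℝ, 0 ≤ C ∧ ∀ᶠ y in nh x, ‖y s - x s‖ ^ M ≤ C * csize d y :=
    fun s => bound_sub_pow x e he M s (h s)
  choose D hD h2 using h2
  have h3 : ∀ᶠ y in nh x, ∀ s ∈ F, ‖y s - x s‖ ^ M ≤ D s * csize d y := by
    rw [Filter.eventually_all_finset]
    exact fun s _ => h2 s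
  set E : ℝ := (F.card : ℝ) ^ M * ∑ s ∈ F, D s with hE
  have hE0 : 0 ≤ E := mul_nonneg (by positivity) (Finset.sum_nonneg fun s _ => hD s)
  refine ⟨C * E ^ k, mul_nonneg hC (pow_nonneg hE0 k), ?_⟩
  filter_upwards [h1, h3] with y h1 h3
  refine h1.trans ?_
  rw [mul_assoc]
  refine mul_le_mul_of_nonneg_left ?_ hC
  rw [pow_mul, ← mul_pow]
  refine pow_le_pow_left₀ (pow_nonneg (dst_nonneg _ _ _) _) ?_ k
  refine (sum_pow_le F (fun s => ‖y s - x s‖) (fun s _ => norm_nonneg _) M hM).trans ?_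
  rw [hE, mul_assoc, Finset.sum_mul]
  gcongr with s hs
  exact h3 s hs

/-- The combination with properness: if `g ∈ J x (M k)` for all `x` over the origin, then
`|g(y)| ≤ C |u(y)| ^ k` for all `y` with `u(y)` small. -/
theorem bound_global [Module.Finite (MvPolynomial (Fin d) ℂ) S]
    (hfin : {x : S →ₐ[ℂ] ℂ | ∀ i, (coord x : Fin d → ℂ) i = 0}.Finite) (M : ℕ) (hM : M ≠ 0)
    (e : (S →ₐ[ℂ] ℂ) → S) (he : ∀ x : S →ₐ[ℂ] ℂ, (∀ i, (coord x : Fin d → ℂ) i = 0) → x (e x) ≠ 0)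
    (h : ∀ x : S →ₐ[ℂ] ℂ, (∀ i, (coord x : Fin d → ℂ) i = 0) → ∀ s : S,
      e x * (s - algebraMap ℂ S (x s)) ^ M ∈
      (MvPolynomial.idealOfVars (Fin d) ℂ).map (algebraMap (MvPolynomial (Fin d) ℂ) S))
    (k : ℕ) (g : S) (hg : ∀ x : S →ₐ[ℂ] ℂ, (∀ i, (coord x : Fin d → ℂ) i = 0) → g ∈ J x (M * k)) :
    ∃ C δ : ℝ, 0 ≤ C ∧ 0 < δ ∧ ∀ y : S →ₐ[ℂ] ℂ, (∀ i, ‖(coord y : Fin d → ℂ) i‖ < δ) →
      ‖y g‖ ≤ C * csize d y ^ k := by
  classical
  have h1 : ∀ x : S →ₐ[ℂ] ℂ, ∃ (C : ℝ) (F : Finset S) (ε : ℝ), 0 ≤ C ∧ 0 < ε ∧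
      ((∀ i, (coord x : Fin d → ℂ) i = 0) → ∀ y : S →ₐ[ℂ] ℂ, (∀ s ∈ F, ‖y s - x s‖ < ε) →
        ‖y g‖ ≤ C * csize d y ^ k) := by
    intro x
    by_cases hx : ∀ i, (coord x : Fin d → ℂ) i = 0
    · obtain ⟨C, hC, h2⟩ := bound_of_mem_J x (e x) (he x hx) M hM (h x hx) k g (hg x hx)
      obtain ⟨F, ε, hε, h3⟩ := (eventually_nh_iff _ _).1 h2
      exact ⟨C, F, ε, hC, hε, fun _ => h3⟩
    · exact ⟨0, ∅, 1, le_rfl, one_pos, fun h => absurd h hx⟩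
  choose C F ε hC hε h2 using h1
  set P := hfin.toFinset with hP
  have hmem : ∀ x : S →ₐ[ℂ] ℂ, (∀ i, (coord x : Fin d → ℂ) i = 0) → x ∈ P := by
    intro x hx
    rw [hP, Set.Finite.mem_toFinset]
    exact hx
  obtain ⟨η, hη, hη2⟩ : ∃ η : ℝ, 0 < η ∧ ∀ x ∈ P, η ≤ ε x := by
    by_cases hne : P.Nonempty
    · obtain ⟨s0, -, hs0⟩ := Finset.exists_min_image P ε hne
      exact ⟨ε s0, hε s0, hs0⟩
    · rw [Finset.not_nonempty_iff_eq_empty] at hne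
      exact ⟨1, one_pos, by simp [hne]⟩
  obtain ⟨δ, hδ, hnear⟩ := exists_point_near (d := d) (P.biUnion F) η hη
  refine ⟨∑ x ∈ P, C x, δ, Finset.sum_nonneg fun x _ => hC x, hδ, fun y hy => ?_⟩
  obtain ⟨x, hx, hxy⟩ := hnear y hy
  have hxP := hmem x hx
  refine (h2 x hx y fun s hs => (hxy s (Finset.mem_biUnion.2 ⟨x, hxP, hs⟩)).trans_le (hη2 x hxP)).trans ?_
  refine mul_le_mul_of_nonneg_right ?_ (pow_nonneg (csize_nonneg _) _)
  exact Finset.single_le_sum (f := C) (fun x _ => hC x) hxP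

end

end Groth.Agent.Gaga.H979.LocEst
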