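import Mathlib.RingTheory.MvPolynomial.Ideal
import Mathlib.RingTheory.MvPolynomial.Homogeneous
import Mathlib.Algebra.MvPolynomial.Funext
import Mathlib.Analysis.Complex.Basic
import Mathlib.Topology.Algebra.Polynomial

/-!
# Polynomials small to order `k` at the origin

A complex polynomial `c` in `d` variables with `|c(u)| ≤ C |u| ^ k` for `u` near `0` lies in the
`k`-th power of the ideal of the variables.
-/

set_option autoImplicit false

namespace Groth.Agent.Gaga.H979.PolyVanish

open Filter Topology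

/-- One variable: `|q(t)| ≤ C |t| ^ k` near `0` forces the coefficients below `k` to vanish. -/
theorem coeff_eq_zero_of_bound (q : Polynomial ℂ) (k : ℕ) (C ε : ℝ) (hε : 0 < ε)
    (h : ∀ t : ℂ, ‖t‖ < ε → ‖q.eval t‖ ≤ C * ‖t‖ ^ k) (j : ℕ) (hj : j < k) : q.coeff j = 0 := by
  induction j using Nat.strong_induction_on with
  | _ j ih =>
    have hdvd : Polynomial.X ^ j ∣ q := by
      rw [Polynomial.X_pow_dvd_iff]
      intro d hd
      exact ih d hd (hd.trans hj)
    obtain ⟨r, hr⟩ := hdvd
    have hcoeff : q.coeff j = r.eval 0 := by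
      rw [hr, ← Polynomial.coeff_zero_eq_eval_zero]
      have := Polynomial.coeff_X_pow_mul r j 0
      simpa using this
    rw [hcoeff]
    by_contra hne
    -- `r(t)` tends to `r(0)`, but is `≤ C |t|^(k-j)`
    have h1 : ∀ t : ℂ, t ≠ 0 → ‖t‖ < ε → ‖r.eval t‖ ≤ C * ‖t‖ ^ (k - j) := by
      intro t ht htε
      have h2 := h t htε
      rw [hr, Polynomial.eval_mul, Polynomial.eval_pow, Polynomial.eval_X, norm_mul, norm_pow] at h2
      have h3 : ‖t‖ ^ k = ‖t‖ ^ j * ‖t‖ ^ (k - j) := by
        rw [← pow_add]; congr 1; omega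
      rw [h3, ← mul_assoc, mul_comm C, mul_assoc] at h2
      exact le_of_mul_le_mul_left h2 (pow_pos (norm_pos_iff.2 ht) _)
    have h4 : Tendsto (fun t : ℂ => ‖r.eval t‖) (𝓝[≠] 0) (𝓝 ‖r.eval 0‖) :=
      (r.continuous.norm.tendsto 0).mono_left nhdsWithin_le_nhds
    have h5 : Tendsto (fun t : ℂ => C * ‖t‖ ^ (k - j)) (𝓝[≠] 0) (𝓝 (C * ‖(0:ℂ)‖ ^ (k - j))) :=
      ((continuous_const.mul (continuous_norm.pow _)).tendsto 0).mono_left nhdsWithin_le_nhds
    have h6 : ∀ᶠ t : ℂ in 𝓝[≠] 0, ‖r.eval t‖ ≤ C * ‖t‖ ^ (k - j) := by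
      have ha : ∀ᶠ t : ℂ in 𝓝[≠] 0, ‖t‖ < ε := by
        apply eventually_nhdsWithin_of_eventually_nhds
        have : Metric.ball (0:ℂ) ε ∈ 𝓝 (0:ℂ) := Metric.ball_mem_nhds _ hε
        filter_upwards [this] with t ht
        simpa using ht
      filter_upwards [ha, self_mem_nhdsWithin] with t h7 h8
      exact h1 t h8 h7
    have h7 := le_of_tendsto_of_tendsto h4 h5 h6
    rw [norm_zero, zero_pow (by omega), mul_zero] at h7
    exact hne (norm_le_zero_iff.1 h7)

/-- The restriction of a polynomial to the line through `0` and `u`. -/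
theorem eval_smul_eq (d : ℕ) (c : MvPolynomial (Fin d) ℂ) (u : Fin d → ℂ) (t : ℂ) :
    MvPolynomial.eval (fun i => t * u i) c =
      (∑ j ∈ Finset.range (c.totalDegree + 1),
        Polynomial.monomial j (MvPolynomial.eval u (MvPolynomial.homogeneousComponent j c))).eval t := by
  conv_lhs => rw [← MvPolynomial.sum_homogeneousComponent c, map_sum]
  rw [Polynomial.eval_finsetSum]
  refine Finset.sum_congr rfl fun j _ => ?_
  rw [Polynomial.eval_monomial]
  have h := (MvPolynomial.homogeneousComponent_isHomogeneous j c)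
  rw [MvPolynomial.eval_eq, MvPolynomial.eval_eq, Finset.sum_mul]
  refine Finset.sum_congr rfl fun m hm => ?_
  have hdeg : m.degree = j := by
    have := h (MvPolynomial.mem_support_iff.1 hm)
    rw [← this, Finsupp.degree_eq_weight_one]; rfl
  have h3 : ∏ i ∈ m.support, (t * u i) ^ m i = t ^ j * ∏ i ∈ m.support, u i ^ m i := by
    rw [← hdeg]
    simp only [mul_pow, Finset.prod_mul_distrib]
    rw [Finset.prod_pow_eq_pow_sum]
    rfl
  rw [h3]
  ring

theorem mem_pow_of_bound (d : ℕ) (c : MvPolynomial (Fin d) ℂ) (k : ℕ) (C ε : ℝ) (hε : 0 < ε)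
    (h : ∀ u : Fin d → ℂ, (∀ i, ‖u i‖ < ε) →
      ‖MvPolynomial.eval u c‖ ≤ C * (∑ i, ‖u i‖) ^ k) :
    c ∈ MvPolynomial.idealOfVars (Fin d) ℂ ^ k := by
  classical
  have key : ∀ j < k, MvPolynomial.homogeneousComponent j c = 0 := by
    intro j hj
    by_cases hjd : c.totalDegree < j
    · exact MvPolynomial.homogeneousComponent_eq_zero _ _ hjd
    apply MvPolynomial.funext
    intro u
    rw [map_zero]
    set q : Polynomial ℂ := ∑ j ∈ Finset.range (c.totalDegree + 1),
        Polynomial.monomial j (MvPolynomial.eval u (MvPolynomial.homogeneousComponent j c)) with hq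
    have hqj : q.coeff j = MvPolynomial.eval u (MvPolynomial.homogeneousComponent j c) := by
      rw [hq, Polynomial.finsetSum_coeff]
      simp only [Polynomial.coeff_monomial]
      rw [Finset.sum_ite_eq' (Finset.range (c.totalDegree + 1)) j]
      rw [if_pos (Finset.mem_range.2 (by omega))]
    rw [← hqj]
    set B : ℝ := ∑ i, ‖u i‖ with hB
    have hB0 : 0 ≤ B := Finset.sum_nonneg fun i _ => norm_nonneg _
    have hui : ∀ i, ‖u i‖ ≤ B := fun i =>
      Finset.single_le_sum (f := fun i => ‖u i‖) (fun i _ => norm_nonneg _) (Finset.mem_univ i)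
    refine coeff_eq_zero_of_bound q k (C * B ^ k) (ε / (B + 1)) (by positivity) ?_ j hj
    intro t ht
    rw [hq, ← eval_smul_eq]
    have h1 : ∀ i, ‖t * u i‖ < ε := by
      intro i
      rw [norm_mul]
      calc ‖t‖ * ‖u i‖ ≤ ‖t‖ * (B + 1) := by
            apply mul_le_mul_of_nonneg_left _ (norm_nonneg _)
            linarith [hui i]
        _ < ε := by
            rwa [lt_div_iff₀ (by positivity)] at ht
    refine (h _ h1).trans ?_
    have h2 : ∑ i, ‖t * u i‖ = ‖t‖ * B := by
      rw [hB, Finset.mul_sum]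
      exact Finset.sum_congr rfl fun i _ => norm_mul _ _
    rw [h2, mul_pow]
    apply le_of_eq
    ring
  rw [MvPolynomial.mem_pow_idealOfVars_iff']
  intro m hm
  have h1 := congrArg (MvPolynomial.coeff m) (key m.degree hm)
  rw [MvPolynomial.coeff_homogeneousComponent, if_pos rfl] at h1
  simpa using h1

end Groth.Agent.Gaga.H979.PolyVanish
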