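import Groth.Agent.Gaga.H979.Proper
import Groth.Agent.An.H866.AlgDense
import Mathlib.RingTheory.Trace.Basic
import Mathlib.RingTheory.IntegralClosure.IntegrallyClosed
import Mathlib.FieldTheory.IsAlgClosed.AlgebraicClosure
import Mathlib.RingTheory.Polynomial.RationalRoot
import Mathlib.RingTheory.Polynomial.UniqueFactorization
import Mathlib.RingTheory.Localization.Integral
import Mathlib.RingTheory.Localization.FractionRing

/-!
# Values of traces

`R = ℂ[X_1, …, X_d] ⊆ S`, `S` a domain finite over `R`, `K = Frac R`, `L = Frac S`.  For every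
`u ∈ ℂ^d` there are points `y_σ` of `S` over `u`, one for each `σ : L →ₐ[K] K̄`, such that the value at
`u` of `Tr_{L/K}(g)` is `∑ y_σ(g)` for every `g ∈ S`.
-/

set_option autoImplicit false

namespace Groth.Agent.Gaga.H979.TraceVal

open Groth.Agent.Gaga.H979.Proper

noncomputable section

variable {d : ℕ} {S : Type*} [CommRing S] [Algebra ℂ S]
  [Algebra (MvPolynomial (Fin d) ℂ) S]
  [IsScalarTower ℂ (MvPolynomial (Fin d) ℂ) S]
  [Module.Finite (MvPolynomial (Fin d) ℂ) S]

local notation "𝓡" => MvPolynomial (Fin d) ℂ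

/-- A point of the integral closure of `R` in an extension over a given point of `R`. -/
theorem exists_point (E : Type*) [Field E] [Algebra 𝓡 E] [FaithfulSMul 𝓡 E] (u : Fin d → ℂ) :
    ∃ a : integralClosure 𝓡 E →+* ℂ, ∀ c : 𝓡, a (algebraMap 𝓡 (integralClosure 𝓡 E) c) =
      MvPolynomial.eval u c := by
  let _ : Algebra ℂ (integralClosure 𝓡 E) :=
    ((algebraMap 𝓡 (integralClosure 𝓡 E)).comp (algebraMap ℂ 𝓡)).toAlgebra
  have hst : IsScalarTower ℂ 𝓡 (integralClosure 𝓡 E) := IsScalarTower.of_algebraMap_eq fun _ => rfl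
  obtain ⟨a, ha⟩ := Groth.Agent.An.H866.AlgDense.exists_algHom_lift (k := ℂ)
    (IsScalarTower.toAlgHom ℂ 𝓡 (integralClosure 𝓡 E))
    (by
      intro z
      exact (integralClosure.AlgebraIsIntegral (R := 𝓡) (A := E)).isIntegral z)
    (MvPolynomial.aeval u) (by
      intro c hc
      have h1 : algebraMap 𝓡 E c = 0 := by
        have := congrArg (algebraMap (integralClosure 𝓡 E) E) hc
        rw [map_zero] at this
        exact this
      have h2 : c = 0 := FaithfulSMul.algebraMap_injective 𝓡 E (by rw [h1, map_zero])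
      rw [h2, map_zero])
  refine ⟨a, fun c => ?_⟩
  have := ha c
  rw [MvPolynomial.aeval_eq_eval] at this
  exact this

variable (K L : Type*) [Field K] [Algebra (MvPolynomial (Fin d) ℂ) K]
  [IsFractionRing (MvPolynomial (Fin d) ℂ) K] [Field L] [Algebra S L]
  [Algebra K L] [Algebra (MvPolynomial (Fin d) ℂ) L] [IsScalarTower (MvPolynomial (Fin d) ℂ) K L]
  [IsScalarTower (MvPolynomial (Fin d) ℂ) S L]

/-- The main statement. -/
theorem exists_points [FiniteDimensional K L] (u : Fin d → ℂ) :
    ∃ y : (L →ₐ[K] AlgebraicClosure K) → (S →ₐ[ℂ] ℂ),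
      (∀ σ i, (coord (y σ) : Fin d → ℂ) i = u i) ∧
      ∀ (g : S) (r : 𝓡), algebraMap 𝓡 K r = Algebra.trace K L (algebraMap S L g) →
        MvPolynomial.eval u r = ∑ σ, y σ g := by
  have : CharZero K := charZero_of_injective_algebraMap (IsFractionRing.injective 𝓡 K)
  have hKE : FaithfulSMul 𝓡 (AlgebraicClosure K) := by
    rw [faithfulSMul_iff_algebraMap_injective, IsScalarTower.algebraMap_eq 𝓡 K (AlgebraicClosure K)]
    exact (algebraMap K _).injective.comp (IsFractionRing.injective 𝓡 K)
  obtain ⟨a, ha⟩ := exists_point (AlgebraicClosure K) u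
  have hint : ∀ (σ : L →ₐ[K] AlgebraicClosure K) (s : S),
      σ (algebraMap S L s) ∈ integralClosure 𝓡 (AlgebraicClosure K) := by
    intro σ s
    have h1 : IsIntegral 𝓡 (algebraMap S L s) :=
      (Algebra.IsIntegral.isIntegral (R := 𝓡) s).algebraMap
    exact h1.map (σ.restrictScalars 𝓡)
  let rh : (L →ₐ[K] AlgebraicClosure K) → (S →+* integralClosure 𝓡 (AlgebraicClosure K)) := fun σ =>
    { toFun := fun s => ⟨σ (algebraMap S L s), hint σ s⟩
      map_one' := Subtype.ext (by simp)
      map_mul' := fun p q => Subtype.ext (by simp)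
      map_zero' := Subtype.ext (by simp)
      map_add' := fun p q => Subtype.ext (by simp) }
  have hrh : ∀ σ (r : 𝓡), rh σ (algebraMap 𝓡 S r) =
      algebraMap 𝓡 (integralClosure 𝓡 (AlgebraicClosure K)) r := by
    intro σ r
    apply Subtype.ext
    change σ (algebraMap S L (algebraMap 𝓡 S r)) = algebraMap 𝓡 (AlgebraicClosure K) r
    rw [← IsScalarTower.algebraMap_apply, IsScalarTower.algebraMap_apply 𝓡 K L, AlgHom.commutes,
      ← IsScalarTower.algebraMap_apply]
  let y : (L →ₐ[K] AlgebraicClosure K) → (S →ₐ[ℂ] ℂ) := fun σ =>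
    { a.comp (rh σ) with
      commutes' := fun c => by
        change a (rh σ (algebraMap ℂ S c)) = c
        rw [IsScalarTower.algebraMap_apply ℂ 𝓡 S, hrh, ha]
        exact MvPolynomial.eval_C c }
  have hy : ∀ σ s, y σ s = a (rh σ s) := fun _ _ => rfl
  refine ⟨y, fun σ i => ?_, fun g r hr => ?_⟩
  · change y σ (algebraMap 𝓡 S (.X i)) = u i
    rw [hy, hrh, ha, MvPolynomial.eval_X]
  · simp_rw [hy]
    rw [← ha, ← map_sum]
    congr 1
    apply Subtype.ext
    rw [AddSubmonoidClass.coe_finsetSum]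
    change algebraMap 𝓡 (AlgebraicClosure K) r = ∑ σ : L →ₐ[K] AlgebraicClosure K, σ (algebraMap S L g)
    rw [← trace_eq_sum_embeddings (K := K) (L := L) (AlgebraicClosure K), ← hr,
      ← IsScalarTower.algebraMap_apply]

/-- The trace of an element of `S` lies in `R`. -/
theorem exists_trace_eq [FiniteDimensional K L] (g : S) :
    ∃ r : 𝓡, algebraMap 𝓡 K r = Algebra.trace K L (algebraMap S L g) := by
  have h1 : IsIntegral 𝓡 (algebraMap S L g) :=
    (Algebra.IsIntegral.isIntegral (R := 𝓡) g).algebraMap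
  have h2 : IsIntegral 𝓡 (Algebra.trace K L (algebraMap S L g)) := Algebra.isIntegral_trace h1
  exact IsIntegrallyClosed.isIntegral_iff.1 h2

end

end Groth.Agent.Gaga.H979.TraceVal
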